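import Cfsg.Agent.Lib.S3298.Glue.Defs

/-!
S3298, finite lemma: an endomorphism of the centraliser of four transpositions among the even permutations of
eight points that keeps the numbers of moved points of involutions is a conjugation.
-/

set_option autoImplicit false
set_option maxRecDepth 100000

namespace Cfsg.Agent.S3298Lib

open Equiv Subgroup SylClasses S3298Fus

/-- The four transpositions of the first four pairs. -/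
def ss : P13 := swap 0 1 * swap 2 3 * (swap 4 5 * swap 6 7)

/-- The model elements fixing the last two pairs pointwise. -/
def T8 : Subgroup ↥W0 where
  carrier := {a | ∀ i : Fin 13, 8 ≤ i.val → std a i = i}
  mul_mem' {a b} ha hb i hi := by rw [map_mul, Perm.mul_apply, hb i hi, ha i hi]
  one_mem' i _ := by rw [map_one]; rfl
  inv_mem' {a} ha i hi := by rw [map_inv, Perm.inv_eq_iff_eq, ha i hi]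

/-- The four generators. -/
def tg : Fin 4 → ↥W0 :=
  ![pm0 (swap 0 1), pm0 (swap 1 2), pm0 (swap 2 3), ⟨W.fl ![1, 1, 0, 0, 0, 0], mem_W0.2 (by decide +kernel)⟩]

theorem tg_mem (k : Fin 4) : tg k ∈ T8 :=
  (by decide +kernel : ∀ (k : Fin 4) (i : Fin 13), 8 ≤ i.val → std (tg k) i = i) k

/-- A word in the generators. -/
def tw (l : List (Fin 4)) : W6 := (l.map fun k => (tg k).1).prod

/-- the involutions of four moved points in the eight -/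
def cand4 : List (List Nat) := [[0, 1, 2, 3, 5, 4, 7, 6, 8, 9, 10, 11, 12],
  [0, 1, 2, 3, 6, 7, 4, 5, 8, 9, 10, 11, 12],
  [0, 1, 2, 3, 7, 6, 5, 4, 8, 9, 10, 11, 12],
  [0, 1, 3, 2, 4, 5, 7, 6, 8, 9, 10, 11, 12],
  [0, 1, 3, 2, 5, 4, 6, 7, 8, 9, 10, 11, 12],
  [0, 1, 4, 5, 2, 3, 6, 7, 8, 9, 10, 11, 12],
  [0, 1, 5, 4, 3, 2, 6, 7, 8, 9, 10, 11, 12],
  [0, 1, 6, 7, 4, 5, 2, 3, 8, 9, 10, 11, 12],
  [0, 1, 7, 6, 4, 5, 3, 2, 8, 9, 10, 11, 12],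
  [1, 0, 2, 3, 4, 5, 7, 6, 8, 9, 10, 11, 12],
  [1, 0, 2, 3, 5, 4, 6, 7, 8, 9, 10, 11, 12],
  [1, 0, 3, 2, 4, 5, 6, 7, 8, 9, 10, 11, 12],
  [2, 3, 0, 1, 4, 5, 6, 7, 8, 9, 10, 11, 12],
  [3, 2, 1, 0, 4, 5, 6, 7, 8, 9, 10, 11, 12],
  [4, 5, 2, 3, 0, 1, 6, 7, 8, 9, 10, 11, 12],
  [5, 4, 2, 3, 1, 0, 6, 7, 8, 9, 10, 11, 12],
  [6, 7, 2, 3, 4, 5, 0, 1, 8, 9, 10, 11, 12],
  [7, 6, 2, 3, 4, 5, 1, 0, 8, 9, 10, 11, 12]]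

/-- one conjugator for each image of the generators -/
def sigs : List (List Nat) := [[0, 1, 2, 3, 4, 5, 6, 7, 8, 9, 10, 11, 12],
  [0, 1, 2, 3, 4, 5, 7, 6, 8, 9, 10, 11, 12],
  [0, 1, 2, 3, 5, 4, 6, 7, 8, 9, 10, 11, 12],
  [0, 1, 2, 3, 5, 4, 7, 6, 8, 9, 10, 11, 12],
  [0, 1, 2, 3, 6, 7, 4, 5, 8, 9, 10, 11, 12],
  [0, 1, 2, 3, 6, 7, 5, 4, 8, 9, 10, 11, 12],
  [0, 1, 2, 3, 7, 6, 4, 5, 8, 9, 10, 11, 12],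
  [0, 1, 2, 3, 7, 6, 5, 4, 8, 9, 10, 11, 12],
  [0, 1, 3, 2, 4, 5, 6, 7, 8, 9, 10, 11, 12],
  [0, 1, 3, 2, 4, 5, 7, 6, 8, 9, 10, 11, 12],
  [0, 1, 3, 2, 5, 4, 6, 7, 8, 9, 10, 11, 12],
  [0, 1, 3, 2, 5, 4, 7, 6, 8, 9, 10, 11, 12],
  [0, 1, 3, 2, 6, 7, 4, 5, 8, 9, 10, 11, 12],
  [0, 1, 3, 2, 6, 7, 5, 4, 8, 9, 10, 11, 12],
  [0, 1, 3, 2, 7, 6, 4, 5, 8, 9, 10, 11, 12],
  [0, 1, 3, 2, 7, 6, 5, 4, 8, 9, 10, 11, 12],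
  [0, 1, 4, 5, 2, 3, 6, 7, 8, 9, 10, 11, 12],
  [0, 1, 4, 5, 2, 3, 7, 6, 8, 9, 10, 11, 12],
  [0, 1, 4, 5, 3, 2, 6, 7, 8, 9, 10, 11, 12],
  [0, 1, 4, 5, 3, 2, 7, 6, 8, 9, 10, 11, 12],
  [0, 1, 4, 5, 6, 7, 2, 3, 8, 9, 10, 11, 12],
  [0, 1, 4, 5, 6, 7, 3, 2, 8, 9, 10, 11, 12],
  [0, 1, 4, 5, 7, 6, 2, 3, 8, 9, 10, 11, 12],
  [0, 1, 4, 5, 7, 6, 3, 2, 8, 9, 10, 11, 12],
  [0, 1, 5, 4, 2, 3, 6, 7, 8, 9, 10, 11, 12],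
  [0, 1, 5, 4, 2, 3, 7, 6, 8, 9, 10, 11, 12],
  [0, 1, 5, 4, 3, 2, 6, 7, 8, 9, 10, 11, 12],
  [0, 1, 5, 4, 3, 2, 7, 6, 8, 9, 10, 11, 12],
  [0, 1, 5, 4, 6, 7, 2, 3, 8, 9, 10, 11, 12],
  [0, 1, 5, 4, 6, 7, 3, 2, 8, 9, 10, 11, 12],
  [0, 1, 5, 4, 7, 6, 2, 3, 8, 9, 10, 11, 12],
  [0, 1, 5, 4, 7, 6, 3, 2, 8, 9, 10, 11, 12],
  [0, 1, 6, 7, 2, 3, 4, 5, 8, 9, 10, 11, 12],
  [0, 1, 6, 7, 2, 3, 5, 4, 8, 9, 10, 11, 12],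
  [0, 1, 6, 7, 3, 2, 4, 5, 8, 9, 10, 11, 12],
  [0, 1, 6, 7, 3, 2, 5, 4, 8, 9, 10, 11, 12],
  [0, 1, 6, 7, 4, 5, 2, 3, 8, 9, 10, 11, 12],
  [0, 1, 6, 7, 4, 5, 3, 2, 8, 9, 10, 11, 12],
  [0, 1, 6, 7, 5, 4, 2, 3, 8, 9, 10, 11, 12],
  [0, 1, 6, 7, 5, 4, 3, 2, 8, 9, 10, 11, 12],
  [0, 1, 7, 6, 2, 3, 4, 5, 8, 9, 10, 11, 12],
  [0, 1, 7, 6, 2, 3, 5, 4, 8, 9, 10, 11, 12],
  [0, 1, 7, 6, 3, 2, 4, 5, 8, 9, 10, 11, 12],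
  [0, 1, 7, 6, 3, 2, 5, 4, 8, 9, 10, 11, 12],
  [0, 1, 7, 6, 4, 5, 2, 3, 8, 9, 10, 11, 12],
  [0, 1, 7, 6, 4, 5, 3, 2, 8, 9, 10, 11, 12],
  [0, 1, 7, 6, 5, 4, 2, 3, 8, 9, 10, 11, 12],
  [0, 1, 7, 6, 5, 4, 3, 2, 8, 9, 10, 11, 12],
  [2, 3, 0, 1, 4, 5, 6, 7, 8, 9, 10, 11, 12],
  [2, 3, 0, 1, 4, 5, 7, 6, 8, 9, 10, 11, 12],
  [2, 3, 0, 1, 5, 4, 6, 7, 8, 9, 10, 11, 12],
  [2, 3, 0, 1, 5, 4, 7, 6, 8, 9, 10, 11, 12],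
  [2, 3, 0, 1, 6, 7, 4, 5, 8, 9, 10, 11, 12],
  [2, 3, 0, 1, 6, 7, 5, 4, 8, 9, 10, 11, 12],
  [2, 3, 0, 1, 7, 6, 4, 5, 8, 9, 10, 11, 12],
  [2, 3, 0, 1, 7, 6, 5, 4, 8, 9, 10, 11, 12],
  [2, 3, 4, 5, 0, 1, 6, 7, 8, 9, 10, 11, 12],
  [2, 3, 4, 5, 0, 1, 7, 6, 8, 9, 10, 11, 12],
  [2, 3, 4, 5, 6, 7, 0, 1, 8, 9, 10, 11, 12],
  [2, 3, 4, 5, 7, 6, 0, 1, 8, 9, 10, 11, 12],
  [2, 3, 5, 4, 0, 1, 6, 7, 8, 9, 10, 11, 12],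
  [2, 3, 5, 4, 0, 1, 7, 6, 8, 9, 10, 11, 12],
  [2, 3, 5, 4, 6, 7, 0, 1, 8, 9, 10, 11, 12],
  [2, 3, 5, 4, 7, 6, 0, 1, 8, 9, 10, 11, 12],
  [2, 3, 6, 7, 0, 1, 4, 5, 8, 9, 10, 11, 12],
  [2, 3, 6, 7, 0, 1, 5, 4, 8, 9, 10, 11, 12],
  [2, 3, 6, 7, 4, 5, 0, 1, 8, 9, 10, 11, 12],
  [2, 3, 6, 7, 5, 4, 0, 1, 8, 9, 10, 11, 12],
  [2, 3, 7, 6, 0, 1, 4, 5, 8, 9, 10, 11, 12],
  [2, 3, 7, 6, 0, 1, 5, 4, 8, 9, 10, 11, 12],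
  [2, 3, 7, 6, 4, 5, 0, 1, 8, 9, 10, 11, 12],
  [2, 3, 7, 6, 5, 4, 0, 1, 8, 9, 10, 11, 12],
  [3, 2, 0, 1, 4, 5, 6, 7, 8, 9, 10, 11, 12],
  [3, 2, 0, 1, 4, 5, 7, 6, 8, 9, 10, 11, 12],
  [3, 2, 0, 1, 5, 4, 6, 7, 8, 9, 10, 11, 12],
  [3, 2, 0, 1, 5, 4, 7, 6, 8, 9, 10, 11, 12],
  [3, 2, 0, 1, 6, 7, 4, 5, 8, 9, 10, 11, 12],
  [3, 2, 0, 1, 6, 7, 5, 4, 8, 9, 10, 11, 12],
  [3, 2, 0, 1, 7, 6, 4, 5, 8, 9, 10, 11, 12],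
  [3, 2, 0, 1, 7, 6, 5, 4, 8, 9, 10, 11, 12],
  [3, 2, 4, 5, 0, 1, 6, 7, 8, 9, 10, 11, 12],
  [3, 2, 4, 5, 0, 1, 7, 6, 8, 9, 10, 11, 12],
  [3, 2, 4, 5, 6, 7, 0, 1, 8, 9, 10, 11, 12],
  [3, 2, 4, 5, 7, 6, 0, 1, 8, 9, 10, 11, 12],
  [3, 2, 5, 4, 0, 1, 6, 7, 8, 9, 10, 11, 12],
  [3, 2, 5, 4, 0, 1, 7, 6, 8, 9, 10, 11, 12],
  [3, 2, 5, 4, 6, 7, 0, 1, 8, 9, 10, 11, 12],
  [3, 2, 5, 4, 7, 6, 0, 1, 8, 9, 10, 11, 12],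
  [3, 2, 6, 7, 0, 1, 4, 5, 8, 9, 10, 11, 12],
  [3, 2, 6, 7, 0, 1, 5, 4, 8, 9, 10, 11, 12],
  [3, 2, 6, 7, 4, 5, 0, 1, 8, 9, 10, 11, 12],
  [3, 2, 6, 7, 5, 4, 0, 1, 8, 9, 10, 11, 12],
  [3, 2, 7, 6, 0, 1, 4, 5, 8, 9, 10, 11, 12],
  [3, 2, 7, 6, 0, 1, 5, 4, 8, 9, 10, 11, 12],
  [3, 2, 7, 6, 4, 5, 0, 1, 8, 9, 10, 11, 12],
  [3, 2, 7, 6, 5, 4, 0, 1, 8, 9, 10, 11, 12],
  [4, 5, 0, 1, 2, 3, 6, 7, 8, 9, 10, 11, 12],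
  [4, 5, 0, 1, 2, 3, 7, 6, 8, 9, 10, 11, 12],
  [4, 5, 0, 1, 3, 2, 6, 7, 8, 9, 10, 11, 12],
  [4, 5, 0, 1, 3, 2, 7, 6, 8, 9, 10, 11, 12],
  [4, 5, 0, 1, 6, 7, 2, 3, 8, 9, 10, 11, 12],
  [4, 5, 0, 1, 6, 7, 3, 2, 8, 9, 10, 11, 12],
  [4, 5, 0, 1, 7, 6, 2, 3, 8, 9, 10, 11, 12],
  [4, 5, 0, 1, 7, 6, 3, 2, 8, 9, 10, 11, 12],
  [4, 5, 2, 3, 0, 1, 6, 7, 8, 9, 10, 11, 12],
  [4, 5, 2, 3, 0, 1, 7, 6, 8, 9, 10, 11, 12],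
  [4, 5, 2, 3, 6, 7, 0, 1, 8, 9, 10, 11, 12],
  [4, 5, 2, 3, 7, 6, 0, 1, 8, 9, 10, 11, 12],
  [4, 5, 3, 2, 0, 1, 6, 7, 8, 9, 10, 11, 12],
  [4, 5, 3, 2, 0, 1, 7, 6, 8, 9, 10, 11, 12],
  [4, 5, 3, 2, 6, 7, 0, 1, 8, 9, 10, 11, 12],
  [4, 5, 3, 2, 7, 6, 0, 1, 8, 9, 10, 11, 12],
  [4, 5, 6, 7, 0, 1, 2, 3, 8, 9, 10, 11, 12],
  [4, 5, 6, 7, 0, 1, 3, 2, 8, 9, 10, 11, 12],
  [4, 5, 6, 7, 2, 3, 0, 1, 8, 9, 10, 11, 12],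
  [4, 5, 6, 7, 3, 2, 0, 1, 8, 9, 10, 11, 12],
  [4, 5, 7, 6, 0, 1, 2, 3, 8, 9, 10, 11, 12],
  [4, 5, 7, 6, 0, 1, 3, 2, 8, 9, 10, 11, 12],
  [4, 5, 7, 6, 2, 3, 0, 1, 8, 9, 10, 11, 12],
  [4, 5, 7, 6, 3, 2, 0, 1, 8, 9, 10, 11, 12],
  [5, 4, 0, 1, 2, 3, 6, 7, 8, 9, 10, 11, 12],
  [5, 4, 0, 1, 2, 3, 7, 6, 8, 9, 10, 11, 12],
  [5, 4, 0, 1, 3, 2, 6, 7, 8, 9, 10, 11, 12],
  [5, 4, 0, 1, 3, 2, 7, 6, 8, 9, 10, 11, 12],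
  [5, 4, 0, 1, 6, 7, 2, 3, 8, 9, 10, 11, 12],
  [5, 4, 0, 1, 6, 7, 3, 2, 8, 9, 10, 11, 12],
  [5, 4, 0, 1, 7, 6, 2, 3, 8, 9, 10, 11, 12],
  [5, 4, 0, 1, 7, 6, 3, 2, 8, 9, 10, 11, 12],
  [5, 4, 2, 3, 0, 1, 6, 7, 8, 9, 10, 11, 12],
  [5, 4, 2, 3, 0, 1, 7, 6, 8, 9, 10, 11, 12],
  [5, 4, 2, 3, 6, 7, 0, 1, 8, 9, 10, 11, 12],
  [5, 4, 2, 3, 7, 6, 0, 1, 8, 9, 10, 11, 12],
  [5, 4, 3, 2, 0, 1, 6, 7, 8, 9, 10, 11, 12],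
  [5, 4, 3, 2, 0, 1, 7, 6, 8, 9, 10, 11, 12],
  [5, 4, 3, 2, 6, 7, 0, 1, 8, 9, 10, 11, 12],
  [5, 4, 3, 2, 7, 6, 0, 1, 8, 9, 10, 11, 12],
  [5, 4, 6, 7, 0, 1, 2, 3, 8, 9, 10, 11, 12],
  [5, 4, 6, 7, 0, 1, 3, 2, 8, 9, 10, 11, 12],
  [5, 4, 6, 7, 2, 3, 0, 1, 8, 9, 10, 11, 12],
  [5, 4, 6, 7, 3, 2, 0, 1, 8, 9, 10, 11, 12],
  [5, 4, 7, 6, 0, 1, 2, 3, 8, 9, 10, 11, 12],
  [5, 4, 7, 6, 0, 1, 3, 2, 8, 9, 10, 11, 12],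
  [5, 4, 7, 6, 2, 3, 0, 1, 8, 9, 10, 11, 12],
  [5, 4, 7, 6, 3, 2, 0, 1, 8, 9, 10, 11, 12],
  [6, 7, 0, 1, 2, 3, 4, 5, 8, 9, 10, 11, 12],
  [6, 7, 0, 1, 2, 3, 5, 4, 8, 9, 10, 11, 12],
  [6, 7, 0, 1, 3, 2, 4, 5, 8, 9, 10, 11, 12],
  [6, 7, 0, 1, 3, 2, 5, 4, 8, 9, 10, 11, 12],
  [6, 7, 0, 1, 4, 5, 2, 3, 8, 9, 10, 11, 12],
  [6, 7, 0, 1, 4, 5, 3, 2, 8, 9, 10, 11, 12],
  [6, 7, 0, 1, 5, 4, 2, 3, 8, 9, 10, 11, 12],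
  [6, 7, 0, 1, 5, 4, 3, 2, 8, 9, 10, 11, 12],
  [6, 7, 2, 3, 0, 1, 4, 5, 8, 9, 10, 11, 12],
  [6, 7, 2, 3, 0, 1, 5, 4, 8, 9, 10, 11, 12],
  [6, 7, 2, 3, 4, 5, 0, 1, 8, 9, 10, 11, 12],
  [6, 7, 2, 3, 5, 4, 0, 1, 8, 9, 10, 11, 12],
  [6, 7, 3, 2, 0, 1, 4, 5, 8, 9, 10, 11, 12],
  [6, 7, 3, 2, 0, 1, 5, 4, 8, 9, 10, 11, 12],
  [6, 7, 3, 2, 4, 5, 0, 1, 8, 9, 10, 11, 12],
  [6, 7, 3, 2, 5, 4, 0, 1, 8, 9, 10, 11, 12],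
  [6, 7, 4, 5, 0, 1, 2, 3, 8, 9, 10, 11, 12],
  [6, 7, 4, 5, 0, 1, 3, 2, 8, 9, 10, 11, 12],
  [6, 7, 4, 5, 2, 3, 0, 1, 8, 9, 10, 11, 12],
  [6, 7, 4, 5, 3, 2, 0, 1, 8, 9, 10, 11, 12],
  [6, 7, 5, 4, 0, 1, 2, 3, 8, 9, 10, 11, 12],
  [6, 7, 5, 4, 0, 1, 3, 2, 8, 9, 10, 11, 12],
  [6, 7, 5, 4, 2, 3, 0, 1, 8, 9, 10, 11, 12],
  [6, 7, 5, 4, 3, 2, 0, 1, 8, 9, 10, 11, 12],
  [7, 6, 0, 1, 2, 3, 4, 5, 8, 9, 10, 11, 12],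
  [7, 6, 0, 1, 2, 3, 5, 4, 8, 9, 10, 11, 12],
  [7, 6, 0, 1, 3, 2, 4, 5, 8, 9, 10, 11, 12],
  [7, 6, 0, 1, 3, 2, 5, 4, 8, 9, 10, 11, 12],
  [7, 6, 0, 1, 4, 5, 2, 3, 8, 9, 10, 11, 12],
  [7, 6, 0, 1, 4, 5, 3, 2, 8, 9, 10, 11, 12],
  [7, 6, 0, 1, 5, 4, 2, 3, 8, 9, 10, 11, 12],
  [7, 6, 0, 1, 5, 4, 3, 2, 8, 9, 10, 11, 12],
  [7, 6, 2, 3, 0, 1, 4, 5, 8, 9, 10, 11, 12],
  [7, 6, 2, 3, 0, 1, 5, 4, 8, 9, 10, 11, 12],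
  [7, 6, 2, 3, 4, 5, 0, 1, 8, 9, 10, 11, 12],
  [7, 6, 2, 3, 5, 4, 0, 1, 8, 9, 10, 11, 12],
  [7, 6, 3, 2, 0, 1, 4, 5, 8, 9, 10, 11, 12],
  [7, 6, 3, 2, 0, 1, 5, 4, 8, 9, 10, 11, 12],
  [7, 6, 3, 2, 4, 5, 0, 1, 8, 9, 10, 11, 12],
  [7, 6, 3, 2, 5, 4, 0, 1, 8, 9, 10, 11, 12],
  [7, 6, 4, 5, 0, 1, 2, 3, 8, 9, 10, 11, 12],
  [7, 6, 4, 5, 0, 1, 3, 2, 8, 9, 10, 11, 12],
  [7, 6, 4, 5, 2, 3, 0, 1, 8, 9, 10, 11, 12],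
  [7, 6, 4, 5, 3, 2, 0, 1, 8, 9, 10, 11, 12],
  [7, 6, 5, 4, 0, 1, 2, 3, 8, 9, 10, 11, 12],
  [7, 6, 5, 4, 0, 1, 3, 2, 8, 9, 10, 11, 12],
  [7, 6, 5, 4, 2, 3, 0, 1, 8, 9, 10, 11, 12],
  [7, 6, 5, 4, 3, 2, 0, 1, 8, 9, 10, 11, 12]]

/-- The relations kept by the endomorphism. -/
def okA (a : List Nat) : Bool := cand4.contains a

/-- The second image. -/
def okB (a b : List Nat) : Bool := movL (cmpL (cmpL (cmpL a b) (cmpL a b)) (cmpL a b)) == 0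

/-- Every admissible choice of the images comes from a conjugator. -/
def autChk : Bool :=
  cand4.all fun a => cand4.all fun b => !okB a b || cand4.all fun c =>
    !(okB b c && movL (cmpL a c) == 8) || cand4.all fun d =>
      !(movL (cmpL a d) == 4 && movL (cmpL (cmpL b d) (cmpL b d)) == 4) ||
        sigs.any fun s => cmpL s (toL (std (tg 0))) == cmpL a s && cmpL s (toL (std (tg 1))) == cmpL b s &&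
          cmpL s (toL (std (tg 2))) == cmpL c s && cmpL s (toL (std (tg 3))) == cmpL d s

theorem autChk_ok : autChk = true := by decide +kernel

/-- The verdict of the search for the involutions of the eight points. -/
def leafC (l : List Nat) : Bool := movL l != 4 || cand4.contains l

theorem cand_ok : srch ([toL ss] ++ [toL (swap 8 9), toL (swap 9 10), toL (swap 10 11), toL (swap 11 12)]) leafC 13 [] = true := by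
  decide +kernel

theorem sigs_ok : ∀ s ∈ sigs, ∃ σ : P13, toL σ = s ∧ σ * ss = ss * σ ∧ ∀ i : Fin 13, 8 ≤ i.val → σ i = i := by
  have h : sigs.all (fun s => decide (s.length = 13 ∧
      (∀ i : Fin 13, s.getD i.val 0 < 13 ∧ (8 ≤ i.val → s.getD i.val 0 = i.val)) ∧
      (∀ i j : Fin 13, s.getD i.val 0 = s.getD j.val 0 → i = j) ∧ cmpL s (toL ss) = cmpL (toL ss) s)) = true := by
    decide +kernel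
  intro s hs
  obtain ⟨hl, hlt, hinj, hc⟩ := of_decide_eq_true (List.all_eq_true.1 h s hs)
  let σ : P13 := Equiv.ofBijective (fun i => (⟨s.getD i.val 0, (hlt i).1⟩ : Fin 13))
    (Finite.injective_iff_bijective.1 fun i j e => hinj i j (congrArg Fin.val e))
  have hσ : toL σ = s := by
    refine List.ext_getElem (by rw [toL_length, hl]) fun n h1 h2 => ?_
    simp only [toL, List.getElem_ofFn]
    show s.getD n 0 = s[n]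
    rw [List.getD_eq_getElem?_getD, List.getElem?_eq_getElem h2, Option.getD_some]
  exact ⟨σ, hσ, toL_inj (by rw [toL_mul, toL_mul, hσ, hc]), fun i hi => Fin.ext ((hlt i).2 hi)⟩

theorem fix_swap {g : P13} (hg : ∀ i : Fin 13, 8 ≤ i.val → g i = i) {a b : Fin 13} (ha : 8 ≤ a.val)
    (hb : 8 ≤ b.val) : swap a b * g = g * swap a b := by
  rw [mul_swap_eq_swap_mul g a b, hg a ha, hg b hb]

theorem mem_cand {g : P13} (h2 : g * g = 1) (hs : g * ss = ss * g) (hfix : ∀ i : Fin 13, 8 ≤ i.val → g i = i)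
    (hm : movL (toL g) = 4) : okA (toL g) = true := by
  have := srch_sound (gens := [ss, swap 8 9, swap 9 10, swap 10 11, swap 11 12]) (leaf := leafC) h2 (by
    intro k hk
    simp only [List.mem_cons, List.not_mem_nil, or_false] at hk
    rcases hk with rfl | rfl | rfl | rfl | rfl
    · exact hs.symm
    all_goals exact fix_swap hfix (by decide) (by decide)) 13 le_rfl (by
      rw [Nat.sub_self, List.take_zero]; exact cand_ok)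
  simpa [leafC, hm, okA] using this

theorem gens_moved : (∀ k, (std (tg k)).support.card = 4 ∧ tg k * tg k = 1) ∧
    (tg 0 * tg 1) * (tg 0 * tg 1) * (tg 0 * tg 1) = 1 ∧ (tg 1 * tg 2) * (tg 1 * tg 2) * (tg 1 * tg 2) = 1 ∧
    (std (tg 0 * tg 2)).support.card = 8 ∧ (std (tg 0 * tg 3)).support.card = 4 ∧
    (std (tg 1 * tg 3 * (tg 1 * tg 3))).support.card = 4 ∧ tg 0 * tg 2 * (tg 0 * tg 2) = 1 ∧
    tg 0 * tg 3 * (tg 0 * tg 3) = 1 ∧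
    tg 1 * tg 3 * (tg 1 * tg 3) * (tg 1 * tg 3 * (tg 1 * tg 3)) = 1 := by
  decide +kernel

/-- The words of the permutations of four pairs. -/
def wP : List (List (Fin 4)) :=
  [[], [0], [1], [2], [0, 1], [0, 2], [1, 0], [1, 2], [2, 1], [0, 1, 0], [0, 1, 2], [0, 2, 1], [1, 0, 2], [1, 2, 1],
    [2, 1, 0], [0, 1, 0, 2], [0, 1, 2, 1], [0, 2, 1, 0], [1, 0, 2, 1], [1, 2, 1, 0], [0, 1, 0, 2, 1],
    [0, 1, 2, 1, 0], [1, 0, 2, 1, 0], [0, 1, 0, 2, 1, 0]]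

/-- The words of the even flips of four pairs. -/
def wV : List (List (Fin 4)) :=
  [[], [1, 2, 1, 3, 1, 2, 3, 1], [2, 1, 3, 1, 2, 3], [1, 3, 1, 3], [2, 1, 3, 1, 2], [1, 3, 1], [3], [1, 2, 1, 3, 1, 2, 3, 1, 3]]

theorem words_p : ∀ p : Perm (Fin 6), p 4 = 4 → p 5 = 5 → W.pm p ∈ wP.map tw := by
  decide +kernel

theorem words_v : ∀ v : Fin 6 → ZMod 2, v 4 = 0 → v 5 = 0 → W.par (W.fl v) = 0 → W.fl v ∈ wV.map tw := by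
  decide +kernel

theorem T8_closure {K : Subgroup ↥W0} (h : ∀ k, tg k ∈ K) : T8 ≤ K := by
  intro a ha
  have hK : ∀ l : List (Fin 4), ∀ b : ↥W0, b.1 = tw l → b ∈ K := by
    intro l b hb
    rw [show b = (l.map tg).prod from Subtype.ext (by
      rw [hb, tw, Subgroup.val_list_prod, List.map_map]; rfl)]
    exact K.list_prod_mem fun x hx => by
      obtain ⟨k, -, rfl⟩ := List.mem_map.1 hx
      exact h k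
  have key : ∀ i : Fin 6, 4 ≤ i.val → a.1.p i = i ∧ a.1.v i = 0 := by
    intro i hi
    have := ha (e13 (Sum.inl (i, 0))) (by
      show 8 ≤ 2 * i.val + (0 : ZMod 2).val
      omega)
    have e : std a (e13 (Sum.inl (i, 0))) = e13 (Sum.inl (a.1.p i, 0 + a.1.v (a.1.p i))) := by
      show e13 ((Perm.sumCongr (dbl a.1) (1 : Perm (Fin 1))) (e13.symm (e13 (Sum.inl (i, 0))))) = _
      rw [Equiv.symm_apply_apply]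
      rfl
    rw [e] at this
    have h' := Sum.inl_injective (e13.injective this)
    have hp : a.1.p i = i := congrArg Prod.fst h'
    refine ⟨hp, ?_⟩
    have hv := congrArg Prod.snd h'
    simpa [hp] using hv
  have hv : W.par (W.fl a.1.v) = 0 := by simpa [W.par] using mem_W0.1 a.2
  obtain ⟨l1, -, e1⟩ := List.mem_map.1 (words_p a.1.p (key 4 (by decide)).1 (key 5 (by decide)).1)
  obtain ⟨l2, -, e2⟩ := List.mem_map.1 (words_v a.1.v (key 4 (by decide)).2 (key 5 (by decide)).2 hv)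
  refine hK (l2 ++ l1) a ?_
  rw [W.eq_fl_pm a.1, ← e1, ← e2, tw, tw, tw, List.map_append, List.prod_append]

/-- The endomorphisms keeping the numbers of moved points are conjugations. -/
theorem aut_T8 (f : ↥T8 →* P13) (hfix : ∀ a, ∀ i : Fin 13, 8 ≤ i.val → f a i = i)
    (hss : ∀ a, f a * ss = ss * f a)
    (hmov : ∀ a : ↥T8, a * a = 1 → (f a).support.card = (std a.1).support.card) :
    ∃ σ : P13, (∀ i : Fin 13, 8 ≤ i.val → σ i = i) ∧ σ * ss = ss * σ ∧ ∀ a, f a = σ * std a.1 * σ⁻¹ := by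
  obtain ⟨hg, h3a, h3b, h8, h4, h4', i8, i4, i4'⟩ := gens_moved
  let t : Fin 4 → ↥T8 := fun k => ⟨tg k, tg_mem k⟩
  have mov : ∀ a : ↥T8, a.1 * a.1 = 1 → movL (toL (f a)) = (std a.1).support.card := fun a ha => by
    rw [movL_toL, hmov a (Subtype.ext ha)]
  have hA : ∀ k, okA (toL (f (t k))) = true := fun k => mem_cand
    (by rw [← map_mul, show t k * t k = 1 from Subtype.ext (hg k).2, map_one]) (hss _) (hfix _)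
    ((mov _ (hg k).2).trans (hg k).1)
  have cube : ∀ {j k : Fin 4}, tg j * tg k * (tg j * tg k) * (tg j * tg k) = 1 →
      okB (toL (f (t j))) (toL (f (t k))) = true := by
    intro j k h
    rw [okB, ← toL_mul, ← map_mul, ← toL_mul, ← map_mul, ← toL_mul, ← map_mul,
      show t j * t k * (t j * t k) * (t j * t k) = 1 from Subtype.ext h, map_one]
    decide +kernel
  simp only [okA, List.contains_iff_mem] at hA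
  have hchk := autChk_ok
  simp only [autChk, List.all_eq_true, List.any_eq_true, Bool.or_eq_true, Bool.and_eq_true, Bool.not_eq_true',
    Bool.and_eq_false_iff, beq_iff_eq, beq_eq_false_iff_ne, ne_eq] at hchk
  obtain h | hchk := hchk _ (hA 0) _ (hA 1)
  · exact absurd (cube h3a) (by rw [h]; decide)
  obtain (h | h) | hchk := hchk _ (hA 2)
  · exact absurd (cube h3b) (by rw [h]; decide)
  · refine absurd ?_ h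
    rw [← toL_mul, ← map_mul, mov (t 0 * t 2) i8, Subgroup.coe_mul]; exact h8
  obtain (h | h) | hchk := hchk _ (hA 3)
  · refine absurd ?_ h
    rw [← toL_mul, ← map_mul, mov (t 0 * t 3) i4, Subgroup.coe_mul]; exact h4
  · refine absurd ?_ h
    rw [← toL_mul, ← map_mul, ← toL_mul, ← map_mul, mov (t 1 * t 3 * (t 1 * t 3)) i4', Subgroup.coe_mul,
      Subgroup.coe_mul]; exact h4'
  obtain ⟨s, hs, ⟨⟨e0, e1⟩, e2⟩, e3⟩ := hchk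
  obtain ⟨σ, hσ, hσs, hσf⟩ := sigs_ok s hs
  refine ⟨σ, hσf, hσs, fun a => ?_⟩
  let F : ↥T8 →* P13 := (MulAut.conj σ).toMonoidHom.comp (std.comp T8.subtype)
  suffices a ∈ MonoidHom.eqLocus f F from this
  have hgen : ∀ k, f (t k) = F (t k) := by
    have key : ∀ k, cmpL s (toL (std (tg k))) = cmpL (toL (f (t k))) s := by
      intro k
      fin_cases k
      exacts [e0, e1, e2, e3]
    intro k
    refine eq_mul_inv_iff_mul_eq.2 (toL_inj ?_)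
    rw [toL_mul]
    show cmpL (toL (f (t k))) (toL σ) = toL (σ * std (tg k))
    rw [toL_mul, hσ]
    exact (key k).symm
  have := T8_closure (K := (MonoidHom.eqLocus f F).map T8.subtype) (fun k => ⟨t k, hgen k, rfl⟩) a.2
  obtain ⟨b, hb, e⟩ := this
  rwa [show a = b from Subtype.ext e.symm]

end Cfsg.Agent.S3298Lib
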