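import Cfsg.Agent.Lib.S3298.Glue.Defs

/-!
S3298, finite lemmas of the centraliser of the short involution: fused elements centralising the four-group
have a fused translate, and every other four-group with three short involutions has a witness without one.
-/

set_option autoImplicit false
set_option maxRecDepth 100000

namespace Cfsg.Agent.S3298Lib

open Equiv SylClasses S3298Fus

/-- The third involution of the four-group of the last two pairs. -/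
def c45 : ↥W0 := a45 * b45

theorem comm_a45 {a : ↥W0} (h : a * a45 = a45 * a) : ∀ i : Fin 6, 4 ≤ i.val → 4 ≤ (a.1.p i).val := by
  intro i hi
  have e : W.fl (![0, 0, 0, 0, 1, 1] ∘ a.1.p.symm) = W.fl (![0, 0, 0, 0, 1, 1] : Fin 6 → ZMod 2) := by
    rw [← W.conj_fl a.1, mul_inv_eq_iff_eq_mul]
    exact congrArg Subtype.val h
  have h' := congrFun (W.fl_inj.1 e) (a.1.p i)
  rw [Function.comp_apply, Equiv.symm_apply_apply] at h'
  exact (by decide : ∀ i j : Fin 6, 4 ≤ i.val → (![0, 0, 0, 0, 1, 1] : Fin 6 → ZMod 2) i =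
    ![0, 0, 0, 0, 1, 1] j → 4 ≤ j.val) i _ hi h'

theorem translate_raw : ∀ p : Perm (Fin 6), (4 ≤ (p 4).val ∧ 4 ≤ (p 5).val ∧ ∀ i, p (p i) = i) →
    ∀ v : Fin 6 → ZMod 2, (W.par (W.fl v) = 0 ∧ v 4 = v 5 ∧ (∀ i, v (p i) = v i) ∧ Dat.P27 ⟨v, p⟩) →
      Dat.P27 (⟨v, p⟩ * a45.1) ∨ Dat.P27 (⟨v, p⟩ * b45.1) ∨ Dat.P27 (⟨v, p⟩ * c45.1) := by
  decide +kernel

/-- A fused element centralising the four-group has a fused translate. -/
theorem translate {a : ↥W0} (h2 : a * a = 1) (hx : a * a45 = a45 * a) (hb : a * b45 = b45 * a)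
    (hp : Dat.P27 a.1) :
    Dat.P27 (a * a45).1 ∨ Dat.P27 (a * b45).1 ∨ Dat.P27 (a * c45).1 := by
  obtain ⟨hinv, hv⟩ := invol_facts (congrArg Subtype.val h2 : a.1 * a.1 = 1)
  have h45 := comm_a45 hx
  refine translate_raw a.1.p ⟨h45 4 (by decide), h45 5 (by decide), hinv⟩ a.1.v
    ⟨by simpa [W.par] using mem_W0.1 a.2, ?_, hv, hp⟩
  have h' := congrArg Subtype.val hb
  have e := congrFun (congrArg W.v h') (a.1.p 4)
  have ep := DFunLike.congr_fun (congrArg W.p h') 4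
  rcases (by decide : ∀ j : Fin 6, 4 ≤ j.val → j = 4 ∨ j = 5) _ (h45 4 (by decide)) with e4 | e4 <;>
    simp [b45, pm0, e4] at e ep ⊢ <;> first | exact e | exact e.symm

/-- The witnesses. -/
def wits : List W6 :=
  [⟨![1, 1, 1, 1, 1, 1], 1⟩,
    ⟨![0, 0, 0, 0, 1, 1], swap 0 1 * swap 2 3⟩,
    ⟨![1, 1, 1, 1, 1, 1], swap 0 1 * swap 2 3⟩,
    ⟨![0, 0, 0, 0, 1, 1], swap 0 2 * swap 1 3⟩,
    ⟨![1, 1, 1, 1, 1, 1], swap 0 2 * swap 1 3⟩,
    ⟨![0, 0, 0, 0, 1, 1], swap 0 3 * swap 1 2⟩,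
    ⟨![1, 1, 1, 1, 1, 1], swap 0 3 * swap 1 2⟩]

theorem wits_ok : ∀ f ∈ wits, f * f = 1 ∧ W.par f = 0 ∧ Dat.P27 f ∧ f * a45.1 = a45.1 * f := by
  simp only [wits, List.forall_mem_cons, List.not_mem_nil, IsEmpty.forall_iff, implies_true, and_true]
  decide +kernel

/-- A short involution of the centraliser that is outside the four-group and has a short translate. -/
def Outer (k : W6) : Prop :=
  ¬Dat.P27 k ∧ ¬Dat.P27 (k * a45.1) ∧ (k * b45.1 * k = b45.1 ∨ k * b45.1 * k = c45.1) ∧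
    k ≠ 1 ∧ k ≠ a45.1 ∧ k ≠ b45.1 ∧ k ≠ c45.1

instance : DecidablePred Outer := fun k => by unfold Outer; infer_instance

theorem witness_raw : ∀ p : Perm (Fin 6), (4 ≤ (p 4).val ∧ 4 ≤ (p 5).val ∧ ∀ i, p (p i) = i) →
    ∀ v : Fin 6 → ZMod 2, (W.par (W.fl v) = 0 ∧ (∀ i, v (p i) = v i) ∧ Outer ⟨v, p⟩) →
      wits.any (fun f => decide (f * ⟨v, p⟩ = ⟨v, p⟩ * f ∧ ¬Dat.P27 (f * a45.1) ∧
        ¬Dat.P27 (f * ⟨v, p⟩) ∧ ¬Dat.P27 (f * (a45.1 * ⟨v, p⟩)))) = true := by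
  decide +kernel

/-- The witness against fusing the four-group with another one. -/
theorem witness {k : ↥W0} (h2 : k * k = 1) (hx : k * a45 = a45 * k) (hk : Outer k.1) :
    ∃ f : ↥W0, f * f = 1 ∧ Dat.P27 f.1 ∧ f * a45 = a45 * f ∧ f * k = k * f ∧
      ¬Dat.P27 (f * a45).1 ∧ ¬Dat.P27 (f * k).1 ∧ ¬Dat.P27 (f * (a45 * k)).1 := by
  obtain ⟨hinv, hv⟩ := invol_facts (congrArg Subtype.val h2 : k.1 * k.1 = 1)
  have h45 := comm_a45 hx
  obtain ⟨f, hf, hd⟩ := List.any_eq_true.1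
    (witness_raw k.1.p ⟨h45 4 (by decide), h45 5 (by decide), hinv⟩ k.1.v
      ⟨by simpa [W.par] using mem_W0.1 k.2, hv, hk⟩)
  obtain ⟨hc, n1, n2, n3⟩ := of_decide_eq_true hd
  obtain ⟨f2, fpar, f27, fx⟩ := wits_ok f hf
  exact ⟨⟨f, mem_W0.2 fpar⟩, Subtype.ext f2, f27, Subtype.ext fx, Subtype.ext hc, n1, n2, n3⟩

end Cfsg.Agent.S3298Lib
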